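import Cfsg.Agent.Comp.Suz.Up
import Cfsg.Agent.Comp.Suz.Nets

set_option autoImplicit false
set_option maxRecDepth 100000

namespace Cfsg.Agent.Comp.Suz
open Cfsg.Agent.Comp

namespace Col

noncomputable def t0 : Tr := (Tr.node (nat_lit 0) (Tr.leaf (nat_lit 0x86919504a861f30f0048c40054fffc248d26253fffffffffffff01e7ffe02421cfffffffffffff01d7ffc0251911e9004415e079fff81cfffffff8a891584c3fff2138f93ffffff02b44448abfff213fffffffffffff81561a23d4fff8f906ca011ffffffc0a9091ffffffffffffffffffffffe0534c8074802003103681a80cdfff02e2540aa04a1008129c948065290fffd220814fff9754021fff2ea1b57ffe8d04487ffcba88500082150d29fff4481f40da7fff2ea7ffc021ffffffa140d20210fffffffffe01e0087ffd020410fff806c035fff00c7ffc020000fff9b40b209104682040da0450))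
(Tr.node (nat_lit 1) (Tr.leaf (nat_lit 0x8cb108402dfffffffffffffffffffc1589c3ffffffffffffffff00b7ffe32a22000affffffffffffffffffff155ffffffc02a056fffffffffffff86a9c8ffffffffff8057fffffffffc65043e01407e82fbffffffffffffe2a8424fff8053ffffffffffffffff114fff83fbffe014fffffffffffff84a1657ffe495ffffffc029ffffffc64c43c013fffffffffffffffffffe2a7ffffff804fffffffffffffffff1132ca7ffc8a8013fffffffffffff8299e4ffffffffff9d54e46013fffc648320012fffffffffffff0ab81ee2a4592fff804bffe27d03f7ffffff11234a8957ffe012ffffffc0abfff))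
(Tr.leaf (nat_lit 0x7fffffffffffffffffffffffffe57bffffff00f7ffffffffffffffff23c5dffff897c03dfff0307ffffff85e371fffffffffffff818fffffffcce874403bfffffffffffffffffffe2744e7fffffffffffffffffff817b33442000d7fffffffffffffffffff95a1f3fffc03405bfffffffffe0acccc8e7c033ffffff8173fffffffffe564749fff00cfffc0b7ffffffffff232325ffffffc033fffffffffc1518991d67ffffffffffff8067ffe0a7ccc7ffc031ffffffffffffffff14f65605d1fff00c7ffffffffffff82962ae22104dffffffe13dffffffffff0570917fffffffffffffffc02ffff))))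

noncomputable def T : Tr := t0

def RT : List (List (List Nat)) := [
  [[nat_lit 3, nat_lit 0, nat_lit 3],
   [nat_lit 4, nat_lit 0, nat_lit 4],
   [nat_lit 6, nat_lit 0, nat_lit 6],
   [nat_lit 2, nat_lit 0, nat_lit 2],
   [nat_lit 0],
   [nat_lit 5, nat_lit 0, nat_lit 5]],
  [[nat_lit 3, nat_lit 1, nat_lit 3],
   [nat_lit 1],
   [nat_lit 4, nat_lit 1, nat_lit 4]],
  [[nat_lit 5, nat_lit 2, nat_lit 5],
   [nat_lit 4, nat_lit 2, nat_lit 4],
   [nat_lit 6, nat_lit 2, nat_lit 6],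
   [nat_lit 2],
   [nat_lit 1, nat_lit 2, nat_lit 1, nat_lit 2, nat_lit 1]],
  [[nat_lit 6, nat_lit 3, nat_lit 6],
   [nat_lit 5, nat_lit 3, nat_lit 5],
   [nat_lit 3]],
  [[nat_lit 6, nat_lit 1, nat_lit 3, nat_lit 5, nat_lit 2],
   [nat_lit 4],
   [nat_lit 5, nat_lit 4, nat_lit 5],
   [nat_lit 6, nat_lit 4, nat_lit 6]],
  [[nat_lit 4, nat_lit 5, nat_lit 4],
   [nat_lit 0, nat_lit 6, nat_lit 5, nat_lit 6],
   [nat_lit 5]],
  [[nat_lit 4, nat_lit 6, nat_lit 4],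
   [nat_lit 6],
   [nat_lit 5, nat_lit 6, nat_lit 5, nat_lit 0]],
  [[nat_lit 1, nat_lit 3, nat_lit 5, nat_lit 2, nat_lit 4, nat_lit 6],
   [nat_lit 1, nat_lit 6, nat_lit 1, nat_lit 6, nat_lit 1, nat_lit 6],
   [nat_lit 0, nat_lit 0],
   [nat_lit 6, nat_lit 6],
   [nat_lit 2, nat_lit 2],
   [nat_lit 5, nat_lit 6, nat_lit 0, nat_lit 5, nat_lit 6],
   [nat_lit 6, nat_lit 4, nat_lit 2, nat_lit 5, nat_lit 3, nat_lit 1],
   [nat_lit 3, nat_lit 3],
   [nat_lit 1, nat_lit 1],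
   [nat_lit 5, nat_lit 5],
   [nat_lit 5, nat_lit 4, nat_lit 5, nat_lit 4],
   [nat_lit 2, nat_lit 4, nat_lit 2, nat_lit 4],
   [nat_lit 6, nat_lit 1, nat_lit 5, nat_lit 6, nat_lit 1, nat_lit 5, nat_lit 6, nat_lit 1, nat_lit 5, nat_lit 6, nat_lit 1, nat_lit 5, nat_lit 6, nat_lit 1, nat_lit 5],
   [nat_lit 5, nat_lit 1, nat_lit 5, nat_lit 1, nat_lit 5, nat_lit 1],
   [nat_lit 4, nat_lit 4],
   [nat_lit 3, nat_lit 5, nat_lit 2, nat_lit 4, nat_lit 6, nat_lit 1],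
   [nat_lit 3, nat_lit 1, nat_lit 3, nat_lit 1],
   [nat_lit 4, nat_lit 1, nat_lit 2, nat_lit 3, nat_lit 2, nat_lit 3, nat_lit 1, nat_lit 2, nat_lit 3, nat_lit 2, nat_lit 3, nat_lit 1, nat_lit 2, nat_lit 3, nat_lit 2, nat_lit 3, nat_lit 1, nat_lit 2, nat_lit 3, nat_lit 2, nat_lit 3, nat_lit 1, nat_lit 2, nat_lit 3, nat_lit 2, nat_lit 3, nat_lit 4, nat_lit 1, nat_lit 2, nat_lit 3, nat_lit 2, nat_lit 3, nat_lit 1, nat_lit 2, nat_lit 3, nat_lit 2, nat_lit 3, nat_lit 1, nat_lit 2, nat_lit 3, nat_lit 2, nat_lit 3, nat_lit 1, nat_lit 2, nat_lit 3, nat_lit 2, nat_lit 3, nat_lit 1, nat_lit 2, nat_lit 3, nat_lit 2, nat_lit 3, nat_lit 4, nat_lit 1, nat_lit 2, nat_lit 3, nat_lit 2, nat_lit 3, nat_lit 1, nat_lit 2, nat_lit 3, nat_lit 2, nat_lit 3, nat_lit 1, nat_lit 2, nat_lit 3, nat_lit 2, nat_lit 3, nat_lit 1, nat_lit 2, nat_lit 3, nat_lit 2, nat_lit 3, nat_lit 1, nat_lit 2, nat_lit 3, nat_lit 2, nat_lit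 3]]]

def HT : List (List (Nat × Nat × Nat)) := [
  [(0, 10, 1), (0, 11, 1), (0, 13, 1), (0, 9, 1), (0, 1, 0), (0, 12, 1)],
  [(0, 15, 1), (0, 2, 0), (0, 16, 1)],
  [(0, 21, 1), (0, 20, 1), (0, 22, 1), (0, 3, 0), (0, 14, 0)],
  [(0, 25, 1), (0, 24, 1), (0, 4, 0)],
  [(0, 0, 5), (0, 5, 0), (0, 26, 1), (0, 27, 1)],
  [(0, 26, 0), (0, 30, 0), (0, 6, 0)],
  [(0, 27, 0), (0, 7, 0), (0, 30, 2)],
  [(0, 0, 0), (0, 18, 0), (0, 1, 0), (0, 7, 0), (0, 3, 0), (1, 30, 2), (1, 0, 0), (0, 4, 0), (0, 2, 0), (0, 6, 0), (0, 26, 1), (0, 20, 0), (0, 32, 2), (0, 17, 1), (0, 5, 0), (0, 0, 1), (0, 15, 1), (0, 33, 25)]]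

def R : List (List Nat) :=
  [[1, 3, 5, 2, 4, 6],
   [0, 0],
   [1, 1],
   [2, 2],
   [3, 3],
   [4, 4],
   [5, 5],
   [6, 6],
   [0, 1, 0, 1, 0, 1, 0, 1, 0, 1],
   [0, 2, 0, 2],
   [0, 3, 0, 3],
   [0, 4, 0, 4],
   [0, 5, 0, 5],
   [0, 6, 0, 6],
   [1, 2, 1, 2, 1, 2],
   [1, 3, 1, 3],
   [1, 4, 1, 4],
   [1, 5, 1, 5, 1, 5],
   [1, 6, 1, 6, 1, 6],
   [2, 3, 2, 3, 2, 3, 2, 3, 2, 3, 2, 3, 2, 3, 2, 3],
   [2, 4, 2, 4],
   [2, 5, 2, 5],
   [2, 6, 2, 6],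
   [3, 4, 3, 4, 3, 4],
   [3, 5, 3, 5],
   [3, 6, 3, 6],
   [4, 5, 4, 5],
   [4, 6, 4, 6],
   [5, 6, 5, 6, 5, 6, 5, 6],
   [0, 3, 2, 3, 2, 3, 2, 3, 2],
   [0, 6, 5, 6, 5],
   [0, 1, 2, 5, 0, 1, 2, 5, 0, 1, 2, 5, 0, 1, 2, 5, 0, 1, 2, 5],
   [1, 5, 6, 1, 5, 6, 1, 5, 6, 1, 5, 6, 1, 5, 6],
   [1, 2, 3, 2, 3, 1, 2, 3, 2, 3, 1, 2, 3, 2, 3, 1, 2, 3, 2, 3, 1, 2, 3, 2, 3, 4, 1, 2, 3, 2, 3, 1, 2, 3, 2, 3, 1, 2, 3, 2, 3, 1, 2, 3, 2, 3, 1, 2, 3, 2, 3, 4, 1, 2, 3, 2, 3, 1, 2, 3, 2, 3, 1, 2, 3, 2, 3, 1, 2, 3, 2, 3, 1, 2, 3, 2, 3, 4]]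

def W : List (List Nat) := []

noncomputable def P : Par := ⟨T, (nat_lit 4), (nat_lit 15), (nat_lit 117), (nat_lit 13), (nat_lit 8191), (nat_lit 6), (nat_lit 63), (nat_lit 7), (nat_lit 17), (nat_lit 64), (nat_lit 0x8398a418820), RT⟩

noncomputable def J0 : List Nat := [
  nat_lit 0x4700226112c0083844f0021e114c00858442d8010b08960041c20608142050a1022e40063c2060a1020408be0041c22fc0067c2040c102c9001070811ec00838448f004261023f8010708ae0043c304570020e124c0085840829002900290029002900a400a400a400a400a400a40a400a400a400a400a400274708120c0083849f0021e103049f00216102a4b1c0087c205ba0020e1964e000c1846f0021611bc00838608de0041c22d0b4250b42d0942d001ecc2e48c0018b0819a4e000c586a948003061b656000c7850c14a62800d18538460031e1020408102040a90001830810305d60020e176800858408ef0018f0ab08c0061c20408102f10010b0811e60031e15a11800cb84081768008585e20020e102e300107097e0018f081039c00062c20798000c786f9685e0040e1823bc0067c3040a10204081727b800c7840a1020408126c008385397e00376102a400060c27b8010f0c13dc008384f70021612ac0083841f800066e1,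
  nat_lit 0x558000c5840818204b70020e1565f800c984081fa000306131c0085840c10294ad001a30f73b00062c2618010708102040c108a4a00060e10304f30021e12bc008584081024700024308102040c129c0085840a92b40067c2040810206081020408102040c115e003261020608102b50010b0815656800dd8408102060812a80030610204081020608119c0034e102040812187e0014187d8000c1860bf2bc0067c20408182040818e13800067e102040815a0003161820408102040810306095e0037610304081020408b53c0003030810204081030619720034e1,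
  nat_lit 0xc1020408103140000303081020417800c3840816e5a178010586195e0034e19600032e1020408182068be8ce0014b84eb002261020408103040cf00018f08182040810364b40008bc34400061c204081820409960018b0810204606081920001158408102e400060c2040c17e521680018d86c8000cb84081022300062c30409a60018b0810204081030609720037610760031e1020408102045d800c9840810204081828cc50018b081031c9c253d0029308102040c72f40068c2040c12500061c2060b540042c205f9860033e10204081030408102040810204081]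

theorem c0 : chk T (nat_lit 4) (nat_lit 15) (nat_lit 117) (nat_lit 13) (nat_lit 8191) (nat_lit 6) (nat_lit 63) (nat_lit 7) (nat_lit 17) (nat_lit 64) (nat_lit 0x8398a418820) (nat_lit 5) (nat_lit 31) RT (nat_lit 16) J0 (nat_lit 16) = true := by
  decide +kernel

theorem r0 : P.RowsOK 16 64 := chk_sound P _ _ _ J0 _ _ (by decide +kernel) c0

theorem index.{u} : IndexLe.{u} 7 R W 1 :=
  indexLe_of_cert P HT (by decide +kernel)
    (show P.RowsOK 16 64 from r0)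

end Col

def W0 : List (List Nat) := [[0],
[1],
[2],
[3],
[4],
[5]]

def primT : List (List Nat × List Nat) :=
  [([6, 1, 2, 3, 2, 1, 6], [0, 1, 4, 5, 6, 2, 3, 4, 3, 2, 1, 4, 5, 6, 2, 0, 6, 1, 2, 3, 5, 2]),
   ([6], [0, 2, 1, 3, 6, 4, 2, 3, 5, 2, 6, 1, 4, 0, 2, 3, 4, 2, 0, 1, 6, 5, 3, 2, 1, 0, 2, 6])]

theorem prim_0 : Nat.beq (grow T ([6, 1, 2, 3, 2, 1, 6] :: W0) [0, 1, 4, 5, 6, 2, 3, 4, 3, 2, 1, 4, 5, 6, 2, 0, 6, 1, 2, 3, 5, 2] (pt (nat_lit 0))) (ivl (nat_lit 0) (nat_lit 1782)) = true := by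
  decide +kernel

theorem prim_1 : Nat.beq (grow T ([6] :: W0) [0, 2, 1, 3, 6, 4, 2, 3, 5, 2, 6, 1, 4, 0, 2, 3, 4, 2, 0, 1, 6, 5, 3, 2, 1, 0, 2, 6] (pt (nat_lit 0))) (ivl (nat_lit 0) (nat_lit 1782)) = true := by
  decide +kernel

theorem prim : Prim (gen (sig T) 7) 0 :=
  prim_of_cert (W := W0) (ts := primT) (sch := [0, 1, 5, 3, 4, 1, 0, 3, 2, 1, 3, 5, 0, 4, 2, 1, 3, 2, 4, 0, 1, 5, 3, 0, 1, 2, 4, 1, 0, 1]) ok (ok.genW_le _) (by norm_num) (genW_le_gen (by decide +kernel)) (by decide +kernel)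
    (fun t ht => ev_mem fun x hx => letter_mem_gen ((by decide +kernel : ∀ t ∈ primT, ∀ x ∈ t.1, x < 7) t ht x hx)) (by decide +kernel)
    (by simp only [primT, List.forall_mem_cons]; exact ⟨prim_0, prim_1, by simp⟩)

noncomputable def phi : Cfsg.Spor.Suz →* Equiv.Perm ℕ := (pres.rep ok sat).choose

theorem rep : Rep s 7 1782 T phi := (pres.rep ok sat).choose_spec

theorem card : Finite Cfsg.Spor.Suz ∧ Nat.card Cfsg.Spor.Suz = 448345497600 ∧ Function.Injective phi :=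
  rep.card_eq up low

theorem trans : ∀ i < 1782, ∃ g, phi g 0 = i :=
  rep.trans (sch := [6, 1, 0, 2, 5, 3, 1, 2, 4, 1, 5, 0, 3, 6, 1, 2, 3, 1, 6, 0, 5, 4, 2, 1, 0, 2, 1, 5]) (by decide +kernel)

theorem simple : IsSimpleGroup Cfsg.Spor.Suz :=
  rep.simple (m := 251596800) (p := 11) (X := [[1, 3, 5, 2, 4, 6]]) card.2.2 (by norm_num) (by norm_num) trans prim card.2.1 (by norm_num) pres.sat
    Col.index (by decide +kernel) (by decide +kernel)
    (sat_of_relsP ok (by norm_num) (show relsP (nat_lit 1782) (nat_lit 11) (nat_lit 0) (nat_lit 11) T _ = true by decide +kernel))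

theorem stab : (genW s W0).index = 1782 ∧ ∀ g, g ∈ genW s W0 ↔ phi g 0 = 0 :=
  rep.stab_eq (by decide +kernel) (by norm_num) trans (by decide +kernel) (Tc0.index _ s (pres.sat.mono (by decide +kernel)))

theorem orb416 : (MulAction.orbit (genW (sig T) W0) 1).ncard = 416 :=
  (orbit_ivl (a := 1) (sch := [0, 3, 4, 5, 1, 2, 3, 2, 1, 0, 3, 4, 5, 1, 2, 0, 1]) ok (by norm_num) (by norm_num) (by decide +kernel) (by decide +kernel)).2

theorem orb1365 : (MulAction.orbit (genW (sig T) W0) 417).ncard = 1365 :=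
  (orbit_ivl (a := 417) (sch := [1, 0, 2, 5, 3, 1, 2, 4, 1, 5, 0, 3, 1, 2, 3, 1, 0, 5, 1, 2, 4, 5, 1, 3]) ok (by norm_num) (by norm_num) (by decide +kernel) (by decide +kernel)).2


end Cfsg.Agent.Comp.Suz
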