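import Cfsg.Agent.Comp.Cox
import Cfsg.Prelude.Def_Spor_Suz

set_option autoImplicit false
set_option maxRecDepth 100000

namespace Cfsg.Agent.Comp.Suz
open Cfsg.Agent.Comp

def R : List (List Nat) :=
  [[0, 0],
   [1, 1],
   [2, 2],
   [3, 3],
   [4, 4],
   [5, 5],
   [6, 6],
   [0, 1, 0, 1, 0, 1, 0, 1, 0, 1],
   [0, 2, 0, 2],
   [0, 3, 0, 3],
   [0, 4, 0, 4],
   [0, 5, 0, 5],
   [0, 6, 0, 6],
   [1, 2, 1, 2, 1, 2],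
   [1, 3, 1, 3],
   [1, 4, 1, 4],
   [1, 5, 1, 5, 1, 5],
   [1, 6, 1, 6, 1, 6],
   [2, 3, 2, 3, 2, 3, 2, 3, 2, 3, 2, 3, 2, 3, 2, 3],
   [2, 4, 2, 4],
   [2, 5, 2, 5],
   [2, 6, 2, 6],
   [3, 4, 3, 4, 3, 4],
   [3, 5, 3, 5],
   [3, 6, 3, 6],
   [4, 5, 4, 5],
   [4, 6, 4, 6],
   [5, 6, 5, 6, 5, 6, 5, 6],
   [0, 3, 2, 3, 2, 3, 2, 3, 2],
   [0, 6, 5, 6, 5],
   [0, 1, 2, 5, 0, 1, 2, 5, 0, 1, 2, 5, 0, 1, 2, 5, 0, 1, 2, 5],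
   [1, 5, 6, 1, 5, 6, 1, 5, 6, 1, 5, 6, 1, 5, 6],
   [1, 2, 3, 2, 3, 1, 2, 3, 2, 3, 1, 2, 3, 2, 3, 1, 2, 3, 2, 3, 1, 2, 3, 2, 3, 4, 1, 2, 3, 2, 3, 1, 2, 3, 2, 3, 1, 2, 3, 2, 3, 1, 2, 3, 2, 3, 1, 2, 3, 2, 3, 4, 1, 2, 3, 2, 3, 1, 2, 3, 2, 3, 1, 2, 3, 2, 3, 1, 2, 3, 2, 3, 1, 2, 3, 2, 3, 4]]

def lt : List (Cfsg.Spor.Suz.Gen × Bool) := [(.a, true), (.b, true), (.c, true), (.d, true), (.e, true), (.f, true), (.g, true)]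

def all : List Cfsg.Spor.Suz.Gen := [.a, .b, .c, .d, .e, .f, .g]

def e : Cfsg.Spor.Suz.Gen → Nat
  | .a => 0
  | .b => 1
  | .c => 2
  | .d => 3
  | .e => 4
  | .f => 5
  | .g => 6

def iv : Nat := 9043225708576

/-- the letters -/
noncomputable def s : ℕ → Cfsg.Spor.Suz := coxS Cfsg.Spor.Suz.edges Cfsg.Spor.Suz.extra lt

theorem presAll : IsPres s 7 R ∧ (∀ x, s (e x) = PresentedGroup.of x) ∧
    ∀ r, PresentedGroup.mk _ r = ev s (freeWord e iv r) :=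
  isPres_cox (all := all) (by intro x; cases x <;> decide) (by decide +kernel)

theorem pres : IsPres s 7 R := presAll.1

end Cfsg.Agent.Comp.Suz
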